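/-
Finite modules tested on residue fields.
-/
import Mathlib.RingTheory.Finiteness.Nakayama
import Mathlib.LinearAlgebra.Matrix.Charpoly.LinearMap
import Mathlib.LinearAlgebra.Dual.Lemmas
import Mathlib.RingTheory.Ideal.Quotient.Basic
import Mathlib.RingTheory.Noetherian.Basic
import Mathlib.RingTheory.Ideal.Maximal
import Mathlib.Algebra.Module.Projective
import Mathlib.LinearAlgebra.Quotient.Basic
import Mathlib.Algebra.Polynomial.Div
import Mathlib.Algebra.Module.Torsion.Basic
import Mathlib.Algebra.Algebra.Tower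

set_option autoImplicit false
set_option linter.style.haveILetI false

universe u

open Polynomial

namespace Groth.L10.DTen.DbAut

variable {A : Type u} [CommRing A] (m : Ideal A) [m.IsMaximal]
  {M : Type u} [AddCommGroup M] [Module A M]

/-- functionals with values in a residue field detect `m • M` -/
theorem exists_functional {x : M} (hx : x ∉ m • (⊤ : Submodule A M)) :
    ∃ φ : M →ₗ[A] A ⧸ m, φ x ≠ 0 := by
  let := Ideal.Quotient.field m
  let q : M →ₗ[A] M ⧸ m • (⊤ : Submodule A M) := Submodule.mkQ _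
  have hne : q x ≠ 0 := fun h => hx ((Submodule.Quotient.mk_eq_zero _).1 h)
  obtain ⟨ψ, hψ⟩ : ∃ ψ : Module.Dual (A ⧸ m) (M ⧸ m • (⊤ : Submodule A M)), ψ (q x) ≠ 0 := by
    by_contra! h
    exact hne ((Module.forall_dual_apply_eq_zero_iff (A ⧸ m) (q x)).1 h)
  exact ⟨(ψ.restrictScalars A).comp q, hψ⟩

/-- a finite module without functionals to `A ⧸ m` is killed by an element outside `m` -/
theorem exists_notMem_smul_eq_zero [Module.Finite A M] (h : ∀ φ : M →ₗ[A] A ⧸ m, φ = 0) :
    ∃ a ∉ m, ∀ x : M, a • x = 0 := by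
  have hle : (⊤ : Submodule A M) ≤ m • ⊤ := fun x _ => by
    by_contra hx
    obtain ⟨φ, hφ⟩ := exists_functional m hx
    exact hφ (LinearMap.congr_fun (h φ) x)
  obtain ⟨r, hr, hr'⟩ := Submodule.exists_sub_one_mem_and_smul_eq_zero_of_fg_of_le_smul m ⊤
    Module.Finite.fg_top hle
  exact ⟨r, fun hm => Ideal.IsMaximal.ne_top inferInstance ((Ideal.eq_top_iff_one m).2
    (by simpa using m.sub_mem hm hr)), fun x => hr' x trivial⟩

/-- a nonzero module killed by `m` maps onto `A ⧸ m` -/
theorem exists_surjective_of_killed [Nontrivial M] (hm : ∀ a ∈ m, ∀ x : M, a • x = 0) :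
    ∃ φ : M →ₗ[A] A ⧸ m, Function.Surjective φ := by
  obtain ⟨x, hx⟩ := exists_ne (0 : M)
  have hbot : m • (⊤ : Submodule A M) = ⊥ := eq_bot_iff.2 (Submodule.smul_le.2 fun a ha y _ => by simp [hm a ha y])
  obtain ⟨φ, hφ⟩ := exists_functional m (x := x) (by rw [hbot]; simpa using hx)
  obtain ⟨r, hr⟩ := Ideal.Quotient.mk_surjective (φ x)
  have hrm : r ∉ m := fun h => hφ (hr.symm.trans (Ideal.Quotient.eq_zero_iff_mem.2 h))
  obtain ⟨s, hs⟩ := Ideal.IsMaximal.exists_inv (I := m) inferInstance hrm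
  refine ⟨φ, fun y => ?_⟩
  obtain ⟨t, rfl⟩ := Ideal.Quotient.mk_surjective y
  obtain ⟨i, hi, hsum⟩ := hs
  refine ⟨(t * s) • x, ?_⟩
  rw [map_smul, ← hr]
  change (Ideal.Quotient.mk m) ((t * s) * r) = _
  refine Ideal.Quotient.eq.2 ?_
  have : t * s * r - t = -(t * i) := by linear_combination t * hsum
  rw [this]
  exact m.neg_mem (m.mul_mem_left _ hi)

/-- a nonzero module killed by `m` contains `A ⧸ m` -/
theorem exists_injective_of_killed [Nontrivial M] (hm : ∀ a ∈ m, ∀ x : M, a • x = 0) :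
    ∃ j : A ⧸ m →ₗ[A] M, Function.Injective j := by
  obtain ⟨x, hx⟩ := exists_ne (0 : M)
  refine ⟨Submodule.liftQ m (LinearMap.toSpanSingleton A M x) fun a ha => hm a ha x, ?_⟩
  rw [← LinearMap.ker_eq_bot, Submodule.ker_liftQ_eq_bot']
  refine le_antisymm (fun a ha => hm a ha x) fun a (ha : a • x = 0) => ?_
  by_contra ham
  obtain ⟨s, i, hi, hs⟩ := Ideal.IsMaximal.exists_inv (I := m) inferInstance ham
  apply hx
  calc x = (s * a + i) • x := by rw [hs, one_smul]
    _ = 0 := by rw [add_smul, mul_smul, ha, smul_zero, hm i hi x, add_zero]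

omit [m.IsMaximal] in
/-- the test for projectivity: every functional of the kernel with values in a residue field extends -/
theorem projective_of_extends [IsNoetherianRing A] {F : Type u} [AddCommGroup F] [Module A F]
    [Module.Finite A F] [Module.Projective A F] (π : F →ₗ[A] M) (hπ : Function.Surjective π)
    (h : ∀ (n : Ideal A), n.IsMaximal → ∀ φ : LinearMap.ker π →ₗ[A] A ⧸ n,
      ∃ ψ : F →ₗ[A] A ⧸ n, ψ.comp (LinearMap.ker π).subtype = φ) :
    Module.Projective A M := by
  classical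
  let K := LinearMap.ker π
  let I : Ideal A :=
    { carrier := {a | ∃ g : F →ₗ[A] K, g.comp K.subtype = a • LinearMap.id}
      add_mem' := by
        rintro a b ⟨g, hg⟩ ⟨g', hg'⟩
        exact ⟨g + g', by rw [LinearMap.add_comp, hg, hg', add_smul]⟩
      zero_mem' := ⟨0, by simp⟩
      smul_mem' := by
        rintro c a ⟨g, hg⟩
        exact ⟨c • g, by rw [LinearMap.smul_comp, hg, smul_smul]; rfl⟩ }
  suffices h1 : (1 : A) ∈ I by
    obtain ⟨g, hg⟩ := h1
    have hle : LinearMap.ker π ≤ LinearMap.ker (LinearMap.id - K.subtype.comp g) := fun x hx => by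
      have : g x = (⟨x, hx⟩ : K) := by simpa using LinearMap.congr_fun hg (⟨x, hx⟩ : K)
      simp [this]
    let e := π.quotKerEquivOfSurjective hπ
    refine Module.Projective.of_split ((LinearMap.ker π).liftQ _ hle ∘ₗ e.symm.toLinearMap) π ?_
    ext y
    obtain ⟨x, rfl⟩ := hπ y
    have he : e.symm (π x) = Submodule.Quotient.mk x := e.symm_apply_eq.2 rfl
    simp [he]
  by_contra h1
  obtain ⟨n, hn, hIn⟩ := I.exists_le_maximal fun h => h1 (h ▸ trivial)
  let := Ideal.Quotient.field n
  -- `K / nK` injects into `F / nF`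
  let jbar : (K ⧸ n • (⊤ : Submodule A K)) →ₗ[A] (F ⧸ n • (⊤ : Submodule A F)) :=
    Submodule.mapQ _ _ K.subtype (Submodule.smul_le.2 fun a ha y _ =>
      Submodule.smul_mem_smul ha (trivial : K.subtype y ∈ (⊤ : Submodule A F)))
  let jbar' := LinearMap.extendScalarsOfSurjective (S := A ⧸ n) Ideal.Quotient.mk_surjective jbar
  obtain ⟨r, hr⟩ := jbar'.exists_leftInverse_of_injective (LinearMap.ker_eq_bot.2 fun x y hxy => by
    obtain ⟨x, rfl⟩ := Submodule.Quotient.mk_surjective _ x
    obtain ⟨y, rfl⟩ := Submodule.Quotient.mk_surjective _ y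
    rw [Submodule.Quotient.eq]
    by_contra hxy'
    obtain ⟨φ, hφ⟩ := exists_functional n hxy'
    obtain ⟨ψ, hψ⟩ := h n hn φ
    apply hφ
    have hmem : K.subtype (x - y) ∈ n • (⊤ : Submodule A F) := by
      have hxy2 := (Submodule.Quotient.eq (n • (⊤ : Submodule A F))).1
        (hxy : (Submodule.Quotient.mk (K.subtype x) : F ⧸ n • (⊤ : Submodule A F)) = Submodule.Quotient.mk (K.subtype y))
      simpa using hxy2
    rw [← hψ, LinearMap.comp_apply]
    refine Submodule.smul_induction_on hmem (fun a ha z _ => ?_) (fun z w hz hw => by rw [map_add, hz, hw, add_zero])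
    rw [map_smul]
    obtain ⟨t, ht⟩ := Ideal.Quotient.mk_surjective (ψ z)
    rw [← ht]
    exact Ideal.Quotient.eq_zero_iff_mem.2 (n.mul_mem_right _ ha))
  obtain ⟨s, hs⟩ := Module.projective_lifting_property (Submodule.mkQ (n • (⊤ : Submodule A K)))
    ((r.restrictScalars A).comp (Submodule.mkQ (n • (⊤ : Submodule A F)))) (Submodule.mkQ_surjective _)
  let η : Module.End A K := LinearMap.id - s.comp K.subtype
  have hη : LinearMap.range η ≤ n • ⊤ := by
    rintro _ ⟨x, rfl⟩
    rw [← Submodule.Quotient.mk_eq_zero]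
    have h2 := LinearMap.congr_fun hs (x : F)
    have h3 := LinearMap.congr_fun hr (Submodule.Quotient.mk x)
    simp only [η, LinearMap.sub_apply, LinearMap.id_apply, LinearMap.comp_apply, Submodule.mkQ_apply,
      Submodule.Quotient.mk_sub, sub_eq_zero] at h2 h3 ⊢
    exact h3.symm.trans h2.symm
  obtain ⟨p, hp, -, hcoeff, hev⟩ :=
    LinearMap.exists_monic_and_natDegree_eq_and_coeff_mem_pow_and_aeval_eq_zero A η n hη
  obtain ⟨q, hq⟩ := Polynomial.X_sub_C_dvd_sub_C_eval (a := (1 : A)) (p := p)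
  have hp1 : p.eval 1 ∉ n := by
    intro hmem
    apply hn.ne_top
    rw [Ideal.eq_top_iff_one]
    have hmap : p.map (Ideal.Quotient.mk n) = X ^ p.natDegree := by
      ext i
      rw [coeff_map, coeff_X_pow]
      rcases lt_trichotomy i p.natDegree with hi | hi | hi
      · rw [if_neg hi.ne]
        exact Ideal.Quotient.eq_zero_iff_mem.2 (Ideal.pow_le_self (by omega) (hcoeff i))
      · rw [hi, hp.coeff_natDegree, map_one, if_pos rfl]
      · rw [if_neg hi.ne', coeff_eq_zero_of_natDegree_lt hi, map_zero]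
    have h4 := congrArg (eval 1) hmap
    rw [eval_map, eval_pow, eval_X, one_pow, Polynomial.eval₂_at_one, Ideal.Quotient.eq_zero_iff_mem.2 hmem] at h4
    exact Ideal.Quotient.eq_zero_iff_mem.1 ((map_one _).trans h4.symm)
  refine hp1 (hIn ⟨(aeval η q).comp s, ?_⟩)
  have h5 := congrArg (aeval η) hq
  rw [map_sub, hev, aeval_C, map_mul, map_sub, aeval_X, aeval_C, map_one] at h5
  have hcomm : η * aeval η q = aeval η q * η := by
    simpa using ((Commute.all (X : A[X]) q).map (aeval η)).eq
  let σ : Module.End A K := s.comp K.subtype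
  have hσ : η = 1 - σ := rfl
  rw [sub_mul, one_mul, hcomm, hσ, mul_sub, mul_one, zero_sub, ← hσ] at h5
  have h6 : aeval η q * σ = algebraMap A (Module.End A K) (p.eval 1) := by
    rw [sub_sub_cancel_left, neg_inj] at h5
    exact h5.symm
  exact h6.trans (Module.algebraMap_end_eq_smul_id ..)

end Groth.L10.DTen.DbAut
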