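/-
Truncations, single objects, and splitting of bounded objects with projective cohomology.
-/
import Groth.Agent.L10.DRing.Devissage
import Groth.Agent.L10.DTen.DbAut.ExtProj
import Mathlib.Algebra.Homology.DerivedCategory.Linear
import Mathlib.CategoryTheory.Limits.Shapes.Biproducts

set_option autoImplicit false
set_option linter.style.haveILetI false
set_option backward.defeqAttrib.useBackward true
set_option backward.isDefEq.respectTransparency false
set_option backward.isDefEq.respectTransparency.types false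

universe u

open CategoryTheory CategoryTheory.Limits CategoryTheory.Pretriangulated
open Groth.L02.PC Groth.L10.DR

attribute [local instance] HasDerivedCategory.standard

namespace Groth.L10.DTen.DbAut

variable {A : Type u} [CommRing A]

/-- cohomology vanishes below `n` -/
def Below (X : Dual.D A) (n : ℤ) : Prop := ∀ i, i < n → IsZero ((HH i).obj X)

/-- `H^n` of a module in degree `n` -/
noncomputable def HS (n : ℤ) (M : ModuleCat.{u} A) : (HH n).obj (single n M) ≅ M :=
  (DerivedCategory.singleFunctorCompHomologyFunctorIso (ModuleCat.{u} A) n).app M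

theorem isZero_H_single (n i : ℤ) (h : i ≠ n) (M : ModuleCat.{u} A) : IsZero ((HH i).obj (single n M)) := by
  rcases lt_or_gt_of_ne h with h | h
  · exact DerivedCategory.isZero_of_isGE _ n i h
  · exact DerivedCategory.isZero_of_isLE _ n i h

theorem leh_single (n : ℤ) (M : ModuleCat.{u} A) : LEH (single n M) n :=
  fun i hi => isZero_H_single n i hi.ne' M

theorem below_single (n : ℤ) (M : ModuleCat.{u} A) : Below (single n M) n :=
  fun i hi => isZero_H_single n i hi.ne M

theorem map_eq_zero_of_H {n : ℤ} {M N : ModuleCat.{u} A} (g : M ⟶ N)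
    (h : (HH n).map ((DerivedCategory.singleFunctor _ n).map g) = 0) : g = 0 := by
  have := NatIso.naturality_1 (DerivedCategory.singleFunctorCompHomologyFunctorIso (ModuleCat.{u} A) n) g
  simp only [Functor.id_map, Functor.comp_map] at this
  rw [← this, h, zero_comp, comp_zero]

theorem hom_eq_zero_of_le_ge {X Y : Dual.D A} {a b : ℤ} (hab : a < b) (hX : LEH X a) (hY : Below Y b)
    (f : X ⟶ Y) : f = 0 := by
  haveI : X.IsLE a := (DerivedCategory.isLE_iff X a).2 hX
  haveI : Y.IsGE a := (DerivedCategory.isGE_iff Y a).2 fun i hi => hY i (by omega)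
  exact Groth.L10.eq_zero_of_H_eq_zero a f ((hY a hab).eq_of_tgt _ _)

/-- maps out of a projective module in degree `i` to an object living below `i` vanish -/
theorem hom_projective_eq_zero (i : ℤ) (P : ModuleCat.{u} A) [Module.Projective A P] {C : Dual.D A}
    (hC : LEH C (i - 1)) (f : single i P ⟶ C) : f = 0 := by
  let E : DRing.Cx A := (HomologicalComplex.single _ (ComplexShape.up ℤ) i).obj P
  haveI : E.IsKProjective := isKProjective_of_vanishesAbove (b := i)
    (fun j hj => HomologicalComplex.isZero_single_obj_X _ _ _ _ (by omega)) fun j => by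
      by_cases hji : j = i
      · exact Module.Projective.of_equiv
          (HomologicalComplex.singleObjXIsoOfEq (ComplexShape.up ℤ) i P j hji).symm.toLinearEquiv
      · haveI : Subsingleton (E.X j) :=
          ModuleCat.subsingleton_of_isZero (HomologicalComplex.isZero_single_obj_X _ _ _ _ hji)
        infer_instance
  have := Groth.L02.PC.hom_eq_zero (E := E) (k := i)
    (fun j hj => HomologicalComplex.isZero_single_obj_X _ _ _ _ (by omega)) hC
    (((DerivedCategory.singleFunctorIsoCompQ (ModuleCat.{u} A) i).app P).inv ≫ f)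
  exact (cancel_epi ((DerivedCategory.singleFunctorIsoCompQ (ModuleCat.{u} A) i).app P).inv).1
    (this.trans comp_zero.symm)

theorem hom_projective_single_eq_zero {i j : ℤ} (hij : i ≠ j) (P : ModuleCat.{u} A) [Module.Projective A P]
    (N : ModuleCat.{u} A) (f : single i P ⟶ single j N) : f = 0 := by
  rcases lt_or_gt_of_ne hij with h | h
  · exact hom_eq_zero_of_le_ge h (leh_single i P) (below_single j N) f
  · exact hom_projective_eq_zero i P (fun k hk => isZero_H_single j k (by omega) N) f

/-- the two steps isolating the cohomology in degree `i` -/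
theorem exists_cut (Y : Dual.D A) (i : ℤ) :
    ∃ (X : Dual.D A) (ι : X ⟶ Y) (π : X ⟶ single i ((HH i).obj Y)),
      LEH X i ∧ IsIso ((HH i).map ι) ∧ IsIso ((HH i).map π) ∧
      (LEH Y i → IsIso ι) ∧ (Below Y i → IsIso π) ∧
      (∃ (Z : Dual.D A) (g : Y ⟶ Z) (h : Z ⟶ X⟦(1 : ℤ)⟧),
        Triangle.mk ι g h ∈ distinguishedTriangles ∧ Below Z (i + 1) ∧
        ∀ j, i < j → IsIso ((HH j).map g)) ∧
      (∃ (X' : Dual.D A) (f : X' ⟶ X) (h : single i ((HH i).obj Y) ⟶ X'⟦(1 : ℤ)⟧),
        Triangle.mk f π h ∈ distinguishedTriangles ∧ LEH X' (i - 1)) := by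
  let t : Triangulated.TStructure (Dual.D A) := DerivedCategory.TStructure.t
  let X := (t.truncLT (i + 1)).obj Y
  have hι : ∀ j, j ≤ i → IsIso ((HH j).map ((t.truncLTι (i + 1)).app Y)) :=
    fun j hj => Groth.L10.isIso_H_ι (i + 1) j (by omega) Y
  haveI hLT : X.IsLE i := t.isLE_truncLT_obj _ _ _ (by omega)
  let Z := (t.truncGE i).obj X
  haveI : Z.IsGE i := inferInstance
  haveI : Z.IsLE i := by
    rw [DerivedCategory.isLE_iff]
    intro j hj
    have := Groth.L10.isIso_H_π i j hj.le X
    exact (DerivedCategory.isZero_of_isLE X i j hj).of_iso (asIso ((HH j).map ((t.truncGEπ i).app X))).symm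
  let e₀ := (Groth.L10.exists_iso_single_H Z i).some
  haveI := hι i le_rfl
  haveI := Groth.L10.isIso_H_π i i le_rfl X
  let e : Z ≅ single i ((HH i).obj Y) := e₀ ≪≫ (DerivedCategory.singleFunctor _ i).mapIso
    ((asIso ((HH i).map ((t.truncGEπ i).app X))).symm ≪≫ asIso ((HH i).map ((t.truncLTι (i + 1)).app Y)))
  refine ⟨X, (t.truncLTι (i + 1)).app Y, (t.truncGEπ i).app X ≫ e.hom,
    (DerivedCategory.isLE_iff X i).1 hLT, inferInstance, ?_, fun hY => ?_, fun hY => ?_, ?_, ?_⟩
  · rw [Functor.map_comp]
    infer_instance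
  · refine (DerivedCategory.isIso_iff (ModuleCat.{u} A) _).2 fun j => ?_
    by_cases hj : j ≤ i
    · exact hι j hj
    · exact isIso_of_source_target_iso_zero _ (DerivedCategory.isZero_of_isLE X i j (by omega)).isoZero
        (hY j (by omega)).isoZero
  · refine (DerivedCategory.isIso_iff (ModuleCat.{u} A) _).2 fun j => ?_
    rcases lt_trichotomy j i with hj | rfl | hj
    · haveI := hι j hj.le
      exact isIso_of_source_target_iso_zero _
        ((hY j hj).of_iso (asIso ((HH j).map ((t.truncLTι (i + 1)).app Y)))).isoZero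
        (isZero_H_single i j hj.ne _).isoZero
    · rw [Functor.map_comp]
      infer_instance
    · exact isIso_of_source_target_iso_zero _ (DerivedCategory.isZero_of_isLE X i j hj).isoZero
        (isZero_H_single i j hj.ne' _).isoZero
  · exact ⟨_, _, _, t.triangleLTGE_distinguished (i + 1) Y,
      fun j hj => Groth.L10.isZero_H_GE (i + 1) j hj Y,
      fun j hj => Groth.L10.isIso_H_π (i + 1) j (by omega) Y⟩
  · refine ⟨_, (t.truncLTι i).app X, e.inv ≫ (t.truncGEδLT i).app X,
      isomorphic_distinguished _ (t.triangleLTGE_distinguished i X) _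
        (Triangle.isoMk _ _ (Iso.refl _) (Iso.refl _) e.symm ?_ ?_ ?_), fun j hj => ?_⟩
    · simp
    · simp
    · simp
    · exact Groth.L10.isZero_H_LT i j (by omega) X

/-- maps out of an object living in degrees above `i` with projective cohomology -/
theorem hom_eq_zero_of_projective_H {Z : Dual.D A} {a b : ℤ} (ha : Below Z a) (hb : LEH Z b) (j : ℤ) (hj : j < a)
    (hP : ∀ i, a ≤ i → Module.Projective A ((HH i).obj Z)) (N : ModuleCat.{u} A) (f : Z ⟶ single j N) : f = 0 := by
  let P : ObjectProperty (Dual.D A) := fun W => ∀ g : W ⟶ single j N, g = 0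
  haveI : P.IsClosedUnderIsomorphisms := ⟨fun e h g => (cancel_epi e.hom).1 ((h _).trans comp_zero.symm)⟩
  refine Groth.L10.DR.of_homology P (fun W hW g => hW.eq_of_src _ _) (fun T hT h₁ h₃ g => ?_) Z a b
    ((DerivedCategory.isGE_iff Z a).2 ha) ((DerivedCategory.isLE_iff Z b).2 hb) (fun i hi _ g => ?_) f
  · obtain ⟨k, rfl⟩ := Triangle.yoneda_exact₂ T hT g (h₁ _)
    rw [h₃ k, comp_zero]
  · haveI := hP i hi
    exact hom_projective_single_eq_zero (by omega) _ N g

/-- lifting maps out of projective modules through cohomology -/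
theorem exists_hom_of_projective (Y : Dual.D A) (i : ℤ) (P : ModuleCat.{u} A) [Module.Projective A P]
    (g : P ⟶ (HH i).obj Y) :
    ∃ f : single i P ⟶ Y, (HH i).map f = (HS i P).hom ≫ g := by
  obtain ⟨X, ι, π, -, hιi, hπi, -, -, -, X', φ, δ, hT, hX'⟩ := exists_cut Y i
  -- correct by the automorphism of `H^i Y` given by the cut
  let c : (HH i).obj Y ⟶ (HH i).obj Y :=
    (HS i _).inv ≫ inv ((HH i).map π) ≫ (HH i).map ι
  haveI : IsIso c := by infer_instance
  have h2 : (DerivedCategory.singleFunctor _ i).map (g ≫ inv c) ≫ δ = 0 :=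
    hom_projective_eq_zero i P (fun j hj => (hX' (j + 1) (by omega)).of_iso
      (((DerivedCategory.homologyFunctor (ModuleCat.{u} A) 0).shiftIso 1 j (j + 1) (by omega)).app X')) _
  obtain ⟨k', hk2⟩ := Triangle.coyoneda_exact₃ _ hT _ h2
  have hk2' : (DerivedCategory.singleFunctor _ i).map (g ≫ inv c) = k' ≫ π := hk2
  refine ⟨k' ≫ ι, ?_⟩
  have hn : (HH i).map ((DerivedCategory.singleFunctor _ i).map (g ≫ inv c)) =
      (HS i P).hom ≫ (g ≫ inv c) ≫ (HS i _).inv := by
    have := (DerivedCategory.singleFunctorCompHomologyFunctorIso (ModuleCat.{u} A) i).hom.naturality (g ≫ inv c)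
    simp only [Functor.id_map, Functor.comp_map] at this
    rw [← Category.assoc, Iso.eq_comp_inv]
    exact this
  rw [hk2', Functor.map_comp, ← IsIso.eq_comp_inv] at hn
  rw [Functor.map_comp, hn]
  simp only [Category.assoc]
  congr 1
  exact (congrArg (g ≫ ·) (IsIso.inv_hom_id c)).trans (Category.comp_id g)

/-- a bounded object with projective cohomology splits -/
theorem exists_split_iso (L : Dual.D A) (s : Finset ℤ) (hs : ∀ i, i ∉ s → IsZero ((HH i).obj L))
    (hP : ∀ i, Module.Projective A ((HH i).obj L)) :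
    Nonempty ((⨁ fun i : s => single (i : ℤ) ((HH (i : ℤ)).obj L)) ≅ L) := by
  classical
  choose σ hσ using fun i : s => haveI := hP i; exists_hom_of_projective L i ((HH (i : ℤ)).obj L) (𝟙 _)
  let S := fun i : s => single (i : ℤ) ((HH (i : ℤ)).obj L)
  suffices IsIso (biproduct.desc σ) from ⟨asIso (biproduct.desc σ)⟩
  have hsum : ∀ j : ℤ, 𝟙 ((HH j).obj (⨁ S)) =
      ∑ i, (HH j).map (biproduct.π S i) ≫ (HH j).map (biproduct.ι S i) := fun j => by
    rw [← CategoryTheory.Functor.map_id, ← biproduct.total, Functor.map_sum]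
    simp
  refine (DerivedCategory.isIso_iff (ModuleCat.{u} A) _).2 fun j => ?_
  by_cases hj : j ∈ s
  · let i : s := ⟨j, hj⟩
    have h1 : (HH j).map (biproduct.π S i) ≫ (HH j).map (biproduct.ι S i) = 𝟙 _ := by
      rw [hsum, Finset.sum_eq_single i]
      · intro k _ hk
        exact ((isZero_H_single (k : ℤ) j (fun h => hk (Subtype.ext h.symm)) _).eq_of_tgt
          ((HH j).map (biproduct.π S k)) 0).symm ▸ zero_comp
      · exact fun h => absurd (Finset.mem_univ i) h
    haveI : IsIso ((HH j).map (biproduct.ι S i)) :=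
      ⟨(HH j).map (biproduct.π S i), by rw [← Functor.map_comp, biproduct.ι_π_self, CategoryTheory.Functor.map_id], h1⟩
    haveI : IsIso ((HH j).map (biproduct.ι S i) ≫ (HH j).map (biproduct.desc σ)) := by
      rw [← Functor.map_comp, biproduct.ι_desc]
      change IsIso ((HH (i : ℤ)).map (σ i))
      rw [hσ i, Category.comp_id]
      infer_instance
    exact IsIso.of_isIso_comp_left ((HH j).map (biproduct.ι S i)) _
  · refine isIso_of_source_target_iso_zero _ (IsZero.isoZero ?_) (hs j hj).isoZero
    rw [IsZero.iff_id_eq_zero, hsum]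
    refine Finset.sum_eq_zero fun k _ => ?_
    rw [(isZero_H_single (k : ℤ) j (fun h => hj (h ▸ k.2)) _).eq_of_tgt ((HH j).map (biproduct.π S k)) 0, zero_comp]

end Groth.L10.DTen.DbAut
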