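/-
A split object whose endomorphisms are the scalars is invertible.
-/
import Groth.Agent.L10.DTen.DbAut.Split
import Groth.Agent.L10.DTen.Invertible
import Groth.Agent.L10.DTen.Single
import Mathlib.LinearAlgebra.Contraction
import Mathlib.Algebra.Category.ModuleCat.Biproducts
import Mathlib.LinearAlgebra.Dual.Lemmas

set_option autoImplicit false
set_option linter.style.haveILetI false
set_option backward.defeqAttrib.useBackward true
set_option backward.isDefEq.respectTransparency false
set_option backward.isDefEq.respectTransparency.types false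

universe u

open CategoryTheory CategoryTheory.Limits CategoryTheory.Pretriangulated MonoidalCategory
open Groth.L02.PC Groth.L10.DR
open scoped TensorProduct

attribute [local instance] HasDerivedCategory.standard

namespace Groth.L10.DTen.DbAut

variable {A : Type u} [CommRing A]

theorem exists_smul_of_end_unit (f : _root_.DTen.unit A ⟶ _root_.DTen.unit A) :
    ∃ a : A, f = a • 𝟙 (_root_.DTen.unit A) := by
  let e : _root_.DTen.unit A ≅ Dual.inD A A :=
    ((DerivedCategory.singleFunctorIsoCompQ (ModuleCat.{u} A) 0).app (ModuleCat.of A A)).symm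
  obtain ⟨g, hg⟩ := (DerivedCategory.singleFunctor (ModuleCat.{u} A) 0).map_surjective (e.inv ≫ f ≫ e.hom)
  have hg' : g = (g.hom (1 : A)) • 𝟙 (ModuleCat.of A A) := by
    refine ModuleCat.hom_ext (LinearMap.ext_ring ?_)
    change g.hom (1 : A) = (g.hom (1 : A) : A) * 1
    rw [mul_one]
  refine ⟨g.hom (1 : A), ?_⟩
  rw [← cancel_epi e.inv, ← cancel_mono e.hom, Category.assoc, ← hg]
  conv_lhs => rw [hg', Functor.map_smul, CategoryTheory.Functor.map_id]
  simp

theorem eq_zero_of_smul_unit {a : A} (h : a • 𝟙 (_root_.DTen.unit A) = 0) : a = 0 := by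
  let e : _root_.DTen.unit A ≅ Dual.inD A A :=
    ((DerivedCategory.singleFunctorIsoCompQ (ModuleCat.{u} A) 0).app (ModuleCat.of A A)).symm
  have h1 : (DerivedCategory.singleFunctor (ModuleCat.{u} A) 0).map (a • 𝟙 (ModuleCat.of A A)) = 0 := by
    rw [Functor.map_smul, CategoryTheory.Functor.map_id, ← cancel_epi e.hom, ← cancel_mono e.inv]
    simpa using h
  have h2 := congrArg (fun f : ModuleCat.of A A ⟶ ModuleCat.of A A => f (1 : A))
    ((DerivedCategory.singleFunctor (ModuleCat.{u} A) 0).map_injective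
      (h1.trans (Functor.map_zero _ _ _).symm))
  simpa using h2

section

variable {ι : Type} [Fintype ι] (d : ι → ℤ) (H : ι → ModuleCat.{u} A)

/-- scalars act on each summand as any given family of endomorphisms, uniquely -/
theorem bijective_scalars
    (hend : ∀ f : (⨁ fun i => single (d i) (H i)) ⟶ ⨁ fun i => single (d i) (H i), ∃ a : A, f = a • 𝟙 _)
    (hinj : ∀ a : A, a • 𝟙 (⨁ fun i => single (d i) (H i)) = 0 → a = 0) :
    Function.Bijective (LinearMap.pi fun i => LinearMap.toSpanSingleton A (H i →ₗ[A] H i) LinearMap.id) := by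
  classical
  constructor
  · rw [← LinearMap.ker_eq_bot, LinearMap.ker_eq_bot']
    intro a ha
    refine hinj a (biproduct.hom_ext' _ _ fun i => ?_)
    have h1 : a • 𝟙 (H i) = 0 := ModuleCat.hom_ext (congrFun ha i)
    have h2 := congrArg (DerivedCategory.singleFunctor (ModuleCat.{u} A) (d i)).map h1
    rw [Functor.map_smul, CategoryTheory.Functor.map_id, Functor.map_zero] at h2
    rw [Linear.comp_smul, Category.comp_id, comp_zero]
    calc a • biproduct.ι (fun i => single (d i) (H i)) i
        = (a • 𝟙 (single (d i) (H i))) ≫ biproduct.ι (fun i => single (d i) (H i)) i := by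
          rw [Linear.smul_comp, Category.id_comp]
      _ = 0 := by
          have h3 : a • 𝟙 (single (d i) (H i)) = 0 := h2
          rw [h3, zero_comp]
  · intro g
    obtain ⟨a, ha⟩ := hend (biproduct.map fun i =>
      (DerivedCategory.singleFunctor (ModuleCat.{u} A) (d i)).map (ModuleCat.ofHom (g i)))
    refine ⟨a, funext fun i => ?_⟩
    have h1 := congrArg (fun f => biproduct.ι (fun i => single (d i) (H i)) i ≫ f ≫
      biproduct.π (fun i => single (d i) (H i)) i) ha
    simp only [biproduct.ι_map_assoc, biproduct.ι_π_self, Category.comp_id, Linear.smul_comp,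
      Linear.comp_smul, Category.id_comp] at h1
    have h2 : ModuleCat.ofHom (g i) = a • 𝟙 (H i) :=
      (DerivedCategory.singleFunctor (ModuleCat.{u} A) (d i)).map_injective
        (h1.trans (by rw [Functor.map_smul, CategoryTheory.Functor.map_id]))
    exact (congrArg ModuleCat.Hom.hom h2).symm

variable {d H}

omit [Fintype ι] in
/-- distinct summands are orthogonal -/
theorem subsingleton_tensor
    (hbij : Function.Bijective (LinearMap.pi fun i => LinearMap.toSpanSingleton A (H i →ₗ[A] H i) LinearMap.id))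
    {i j : ι} (hij : i ≠ j) : Subsingleton ((H i) ⊗[A] Module.Dual A (H j)) := by
  classical
  obtain ⟨a, ha⟩ := hbij.2 (Pi.single i LinearMap.id)
  have hi : ∀ x : H i, a • x = x := fun x => by
    have := congrFun ha i
    rw [Pi.single_eq_same] at this
    exact LinearMap.congr_fun this x
  have hj : ∀ x : H j, a • x = 0 := fun x => by
    have := congrFun ha j
    rw [Pi.single_eq_of_ne hij.symm] at this
    exact LinearMap.congr_fun this x
  refine subsingleton_of_forall_eq 0 fun z => ?_
  induction z using TensorProduct.induction_on with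
  | zero => rfl
  | tmul x φ =>
    have hφ : a • φ = 0 := LinearMap.ext fun y => by
      rw [LinearMap.smul_apply, ← map_smul, hj, map_zero]; rfl
    rw [← hi x, TensorProduct.smul_tmul, hφ, TensorProduct.tmul_zero]
  | add x y hx hy => rw [hx, hy, add_zero]

/-- the diagonal terms add up to the unit -/
noncomputable def diagEquiv [∀ i, Module.Finite A (H i)] [∀ i, Module.Projective A (H i)]
    (hbij : Function.Bijective (LinearMap.pi fun i => LinearMap.toSpanSingleton A (H i →ₗ[A] H i) LinearMap.id)) :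
    (∀ i, (H i) ⊗[A] Module.Dual A (H i)) ≃ₗ[A] A :=
  (LinearEquiv.piCongrRight fun i => TensorProduct.comm A (H i) (Module.Dual A (H i)) ≪≫ₗ
    LinearEquiv.ofBijective (dualTensorHom A (H i) (H i)) dualTensorHom_bijective) ≪≫ₗ
    (LinearEquiv.ofBijective _ hbij).symm

variable [_root_.DTen.HasLTen A]

/-- tensor product of two modules placed in single degrees -/
noncomputable def tenSingle (i j : ℤ) (M N : ModuleCat.{u} A) (hM : Module.Flat A M) :
    (_root_.DTen.LTen₂ A).obj (single i M, single j N) ≅ single (i + j) (M ⊗ N) :=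
  let S : DRing.Cx A := (HomologicalComplex.single _ (ComplexShape.up ℤ) i).obj M
  let T : DRing.Cx A := (HomologicalComplex.single _ (ComplexShape.up ℤ) j).obj N
  haveI := Groth.L10.DTen.isIso_ε A S T (Or.inl (Groth.L10.KFlat.single M hM i))
  (_root_.DTen.LTen₂ A).mapIso (Iso.prod
      ((DerivedCategory.singleFunctorIsoCompQ (ModuleCat.{u} A) i).app M)
      ((DerivedCategory.singleFunctorIsoCompQ (ModuleCat.{u} A) j).app N) :
      (single i M, single j N) ≅ (DerivedCategory.Q.obj S, DerivedCategory.Q.obj T)) ≪≫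
    asIso ((_root_.DTen.ε A).app (S, T)) ≪≫
    DerivedCategory.Q.mapIso ((Single.iso (curriedTensor (ModuleCat.{u} A)) S i
        (fun p hp => HomologicalComplex.isZero_single_obj_X _ _ _ _ hp) T).symm ≪≫
      (shiftFunctor (DRing.Cx A) (-i)).mapIso
        ((HomologicalComplex.singleMapHomologicalComplex _ (ComplexShape.up ℤ) j).app N ≪≫
          (HomologicalComplex.single _ _ j).mapIso
            ((((curriedTensor (ModuleCat.{u} A))).mapIso (HomologicalComplex.singleObjXSelf _ i M)).app N)) ≪≫
      ((CochainComplex.singleFunctors (ModuleCat.{u} A)).shiftIso (-i) (i + j) j (by omega)).app (M ⊗ N)) ≪≫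
    ((DerivedCategory.singleFunctorIsoCompQ (ModuleCat.{u} A) (i + j)).app (M ⊗ N)).symm

theorem isZero_ten_single (i j : ℤ) (M N : ModuleCat.{u} A) (hM : Module.Flat A M)
    (h : Subsingleton (M ⊗[A] N)) : IsZero ((_root_.DTen.LTen₂ A).obj (single i M, single j N)) :=
  (Functor.map_isZero (DerivedCategory.singleFunctor (ModuleCat.{u} A) (i + j))
    (@ModuleCat.isZero_of_subsingleton _ _ (M ⊗ N) h)).of_iso (tenSingle i j M N hM)

omit [Fintype ι] [_root_.DTen.HasLTen A] in
/-- a biproduct with a single nonzero summand -/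
theorem nonempty_iso_of_isZero [Finite ι] (f : ι → Dual.D A) (i : ι) (h : ∀ j, j ≠ i → IsZero (f j)) :
    Nonempty ((⨁ f) ≅ f i) := by
  classical
  haveI := Fintype.ofFinite ι
  refine ⟨⟨biproduct.π f i, biproduct.ι f i, ?_, biproduct.ι_π_self f i⟩⟩
  rw [← biproduct.total, Finset.sum_eq_single i]
  · intro j _ hj
    rw [(h j hj).eq_of_tgt (biproduct.π f j) 0, zero_comp]
  · exact fun hi => absurd (Finset.mem_univ i) hi

/-- the candidate inverse works -/
theorem exists_inverse [∀ i, Module.Finite A (H i)] [∀ i, Module.Projective A (H i)]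
    (hbij : Function.Bijective (LinearMap.pi fun i => LinearMap.toSpanSingleton A (H i →ₗ[A] H i) LinearMap.id)) :
    _root_.DTen.IsInvertible A (⨁ fun i => single (d i) (H i)) := by
  classical
  let N : ι → ModuleCat.{u} A := fun j => ModuleCat.of A (Module.Dual A (H j))
  let S : ι → Dual.D A := fun i => single (d i) (H i)
  let S' : ι → Dual.D A := fun j => single (-d j) (N j)
  have e₂ : ∀ i : ι, Nonempty ((_root_.DTen.LTen₂ A).obj (S i, ⨁ S') ≅
      (DerivedCategory.singleFunctor (ModuleCat.{u} A) 0).obj (H i ⊗ N i)) := fun i => by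
    obtain ⟨e⟩ := nonempty_iso_of_isZero
      (fun j => (_root_.DTen.LTen₂ A).obj (S i, S' j)) i (fun j hj =>
        isZero_ten_single _ _ _ _ inferInstance (subsingleton_tensor hbij (Ne.symm hj)))
    exact ⟨((_root_.DTen.LTen A).obj (S i)).mapBiproduct S' ≪≫ e ≪≫ tenSingle _ _ _ _ inferInstance ≪≫
      eqToIso (by rw [add_neg_cancel])⟩
  have e : (_root_.DTen.LTen₂ A).obj (⨁ S, ⨁ S') ≅ _root_.DTen.unit A :=
    (_root_.DTen.tensorRightD A (⨁ S')).mapBiproduct S ≪≫ biproduct.mapIso (fun i => (e₂ i).some) ≪≫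
      ((DerivedCategory.singleFunctor (ModuleCat.{u} A) 0).mapBiproduct fun i => H i ⊗ N i).symm ≪≫
      (DerivedCategory.singleFunctor (ModuleCat.{u} A) 0).mapIso
        (ModuleCat.biproductIsoPi (fun i => H i ⊗ N i) ≪≫ (diagEquiv hbij).toModuleIso) ≪≫
      (DerivedCategory.singleFunctorIsoCompQ (ModuleCat.{u} A) 0).app (ModuleCat.of A A)
  haveI := Groth.L10.DTen.isIso_symm (A := A) (⨁ S, ⨁ S')
  exact ⟨⨁ S', ⟨e⟩, ⟨asIso ((_root_.DTen.symm A).app (⨁ S, ⨁ S')) ≪≫ e⟩⟩

end

theorem isInvertible_of_iso [_root_.DTen.HasLTen A] {K K' : Dual.D A} (e : K ≅ K')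
    (h : _root_.DTen.IsInvertible A K) : _root_.DTen.IsInvertible A K' := by
  obtain ⟨L, ⟨a⟩, ⟨b⟩⟩ := h
  exact ⟨L, ⟨(_root_.DTen.LTen₂ A).mapIso (Iso.prod e.symm (Iso.refl L) : (K', L) ≅ (K, L)) ≪≫ a⟩,
    ⟨(_root_.DTen.LTen₂ A).mapIso (Iso.prod (Iso.refl L) e.symm : (L, K') ≅ (L, K)) ≪≫ b⟩⟩

end Groth.L10.DTen.DbAut
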