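/-
Point objects: bounded objects killed by a maximal ideal, with scalar endomorphisms and no negative self-extensions.
-/
import Groth.Agent.L10.DTen.DbAut.Split
import Mathlib.Order.Interval.Finset.Basic
import Mathlib.Data.Int.Interval

set_option autoImplicit false
set_option linter.style.haveILetI false
set_option backward.defeqAttrib.useBackward true
set_option backward.isDefEq.respectTransparency false
set_option backward.isDefEq.respectTransparency.types false

universe u

open CategoryTheory CategoryTheory.Limits CategoryTheory.Pretriangulated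
open Groth.L02.PC Groth.L10.DR

attribute [local instance] HasDerivedCategory.standard

namespace Groth.L10.DTen.DbAut

variable {A : Type u} [CommRing A]

theorem smul_eq_zero_of_top {Y : Dual.D A} {b : ℤ} {M : ModuleCat.{u} A} (p : Y ⟶ single b M)
    [IsIso ((HH b).map p)] {a : A} (h : a • 𝟙 Y = 0) (x : M) : a • x = 0 := by
  have h0 : p ≫ (DerivedCategory.singleFunctor _ b).map (a • 𝟙 M) = 0 := by
    rw [Functor.map_smul, CategoryTheory.Functor.map_id, Linear.comp_smul, Category.comp_id,
      ← Category.id_comp p, ← Linear.smul_comp, h, zero_comp]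
  have h1 := congrArg (HH b).map h0
  rw [Functor.map_comp, Functor.map_zero] at h1
  have h2 := map_eq_zero_of_H _ ((cancel_epi ((HH b).map p)).1 (h1.trans comp_zero.symm))
  exact congrArg (fun f : M ⟶ M => f x) h2

theorem smul_eq_zero_of_bottom {Y : Dual.D A} {b : ℤ} {M : ModuleCat.{u} A} (q : single b M ⟶ Y)
    [IsIso ((HH b).map q)] {a : A} (h : a • 𝟙 Y = 0) (x : M) : a • x = 0 := by
  have h0 : (DerivedCategory.singleFunctor _ b).map (a • 𝟙 M) ≫ q = 0 := by
    rw [Functor.map_smul, CategoryTheory.Functor.map_id, Linear.smul_comp, Category.id_comp,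
      ← Category.comp_id q, ← Linear.comp_smul, h, comp_zero]
  have h1 := congrArg (HH b).map h0
  rw [Functor.map_comp, Functor.map_zero] at h1
  have h2 := map_eq_zero_of_H _ ((cancel_mono ((HH b).map q)).1 (h1.trans zero_comp.symm))
  exact congrArg (fun f : M ⟶ M => f x) h2

/-- a point object is a shift of a residue field -/
theorem exists_iso_of_point (m : Ideal A) [m.IsMaximal] (Y : Dual.D A) (a₀ b₀ : ℤ)
    (hbd : ∀ i, (i < a₀ ∨ b₀ < i) → IsZero ((HH i).obj Y))
    (hneg : ∀ k : ℤ, k < 0 → ∀ f : Y ⟶ Y⟦k⟧, f = 0)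
    (hm : ∀ a ∈ m, a • 𝟙 Y = 0) (hend : ∀ f : Y ⟶ Y, ∃ a : A, f = a • 𝟙 Y) (hY : 𝟙 Y ≠ 0) :
    ∃ n : ℤ, Nonempty (Y ≅ single n (ModuleCat.of A (A ⧸ m))) := by
  classical
  let s : Finset ℤ := (Finset.Icc a₀ b₀).filter fun i => ¬ IsZero ((HH i).obj Y)
  have hs : ∀ i, i ∉ s → IsZero ((HH i).obj Y) := fun i hi => by
    by_contra h
    refine hi (Finset.mem_filter.2 ⟨Finset.mem_Icc.2 ⟨?_, ?_⟩, h⟩) <;>
      by_contra h' <;> exact h (hbd i (by omega))
  have hne : s.Nonempty := by
    by_contra hempty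
    have hall : ∀ i, IsZero ((HH i).obj Y) := fun i => hs i fun h => hempty ⟨i, h⟩
    exact hY (hom_eq_zero_of_le_ge (a := 0) (b := 1) (by omega) (fun i _ => hall i) (fun i _ => hall i) _)
  let b := s.max' hne
  let a := s.min' hne
  have hLE : LEH Y b := fun i hi => hs i fun h => absurd (s.le_max' i h) (by omega)
  have hGE : Below Y a := fun i hi => hs i fun h => absurd (s.min'_le i h) (by omega)
  obtain ⟨Xb, ιb, πb, -, hιb, hπb, hib, -, -, -⟩ := exists_cut Y b
  obtain ⟨Xa, ιa, πa, -, hιa, hπa, -, hpa, -, -⟩ := exists_cut Y a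
  haveI := hib hLE; haveI := hpa hGE
  let p := inv ιb ≫ πb
  let q := inv πa ≫ ιa
  haveI : IsIso ((HH b).map p) := by rw [Functor.map_comp]; infer_instance
  haveI : IsIso ((HH a).map q) := by rw [Functor.map_comp]; infer_instance
  have hntb : Nontrivial ((HH b).obj Y) := by
    by_contra h
    rw [not_nontrivial_iff_subsingleton] at h
    exact (Finset.mem_filter.1 (s.max'_mem hne)).2 (ModuleCat.isZero_of_subsingleton _)
  have hnta : Nontrivial ((HH a).obj Y) := by
    by_contra h
    rw [not_nontrivial_iff_subsingleton] at h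
    exact (Finset.mem_filter.1 (s.min'_mem hne)).2 (ModuleCat.isZero_of_subsingleton _)
  obtain ⟨φ, hφ⟩ := exists_surjective_of_killed m (M := (HH b).obj Y)
    fun c hc x => smul_eq_zero_of_top p (hm c hc) x
  obtain ⟨j, hj⟩ := exists_injective_of_killed m (M := (HH a).obj Y)
    fun c hc x => smul_eq_zero_of_bottom q (hm c hc) x
  have hab : a = b := by
    by_contra hne'
    have hlt : a < b := lt_of_le_of_ne (s.min'_le_max' hne) hne'
    let g : (HH b).obj Y ⟶ (HH a).obj Y := ModuleCat.ofHom (j.comp φ)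
    let e := ((DerivedCategory.singleFunctors (ModuleCat.{u} A)).shiftIso (a - b) b a (by omega)).app ((HH a).obj Y)
    haveI : IsIso ((HH b).map (q⟦a - b⟧')) :=
      (NatIso.isIso_map_iff ((DerivedCategory.homologyFunctor (ModuleCat.{u} A) 0).shiftIso (a - b) b a (by omega))
        q).2 ‹_›
    have h0 := congrArg (HH b).map (hneg (a - b) (by omega)
      (p ≫ (DerivedCategory.singleFunctor _ b).map g ≫ e.inv ≫ q⟦a - b⟧'))
    rw [(HH b).map_comp p, Functor.map_zero] at h0
    have h1 := (cancel_epi ((HH b).map p)).1 (h0.trans comp_zero.symm)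
    rw [(HH b).map_comp] at h1
    haveI : IsIso ((HH b).map (e.inv ≫ q⟦a - b⟧')) := by rw [Functor.map_comp]; infer_instance
    have h2 := map_eq_zero_of_H g ((cancel_mono ((HH b).map (e.inv ≫ q⟦a - b⟧'))).1 (h1.trans zero_comp.symm))
    obtain ⟨x, hx⟩ := hφ 1
    have h3 : j (φ x) = 0 := congrArg (fun f : (HH b).obj Y ⟶ (HH a).obj Y => f x) h2
    rw [hx, ← map_zero j] at h3
    exact Ideal.IsMaximal.ne_top (I := m) inferInstance
      ((Ideal.eq_top_iff_one m).2 (Ideal.Quotient.eq_zero_iff_mem.1 (hj h3)))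
  have hGEb : Below Y b := hab ▸ hGE
  haveI : Y.IsGE b := (DerivedCategory.isGE_iff Y b).2 hGEb
  haveI : Y.IsLE b := (DerivedCategory.isLE_iff Y b).2 hLE
  let e := (Groth.L10.exists_iso_single_H Y b).some
  obtain ⟨j', hj'⟩ := exists_injective_of_killed m (M := (HH b).obj Y)
    fun c hc x => smul_eq_zero_of_top p (hm c hc) x
  obtain ⟨c, hc⟩ := hend (e.hom ≫ (DerivedCategory.singleFunctor _ b).map (ModuleCat.ofHom (j'.comp φ)) ≫ e.inv)
  have hg : ModuleCat.ofHom (j'.comp φ) = c • 𝟙 ((HH b).obj Y) :=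
    (DerivedCategory.singleFunctor (ModuleCat.{u} A) b).map_injective <| by
      rw [Functor.map_smul, CategoryTheory.Functor.map_id]
      rw [← cancel_epi e.hom, ← cancel_mono e.inv, Category.assoc, hc]
      simp
  have hg' : ∀ x, j' (φ x) = c • x := fun x => congrArg (fun f : (HH b).obj Y ⟶ (HH b).obj Y => f x) hg
  have hcm : c ∉ m := fun hcm => by
    obtain ⟨x, hx⟩ := hφ 1
    have h3 := hg' x
    rw [hx, smul_eq_zero_of_top p (hm c hcm) x, ← map_zero j'] at h3
    exact Ideal.IsMaximal.ne_top (I := m) inferInstance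
      ((Ideal.eq_top_iff_one m).2 (Ideal.Quotient.eq_zero_iff_mem.1 (hj' h3)))
  have hinj : Function.Injective φ := by
    intro x y hxy
    obtain ⟨t, i, hi, ht⟩ := Ideal.IsMaximal.exists_inv (I := m) inferInstance hcm
    have h4 : c • (x - y) = 0 := by rw [smul_sub, ← hg', ← hg', hxy, sub_self]
    rw [← sub_eq_zero]
    calc x - y = (t * c + i) • (x - y) := by rw [ht, one_smul]
      _ = 0 := by rw [add_smul, mul_smul, h4, smul_zero, smul_eq_zero_of_top p (hm i hi), add_zero]
  exact ⟨b, ⟨e ≪≫ (DerivedCategory.singleFunctor _ b).mapIso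
    (LinearEquiv.ofBijective φ ⟨hinj, hφ⟩).toModuleIso⟩⟩

end Groth.L10.DTen.DbAut
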