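/-
Cohomology of an object with concentrated maps to residue fields is projective.
-/
import Groth.Agent.L10.DTen.DbAut.Split
import Mathlib.Algebra.Homology.DerivedCategory.ShortExact
import Mathlib.RingTheory.Finiteness.Cardinality
import Mathlib.LinearAlgebra.StdBasis

set_option autoImplicit false
set_option linter.style.haveILetI false
set_option backward.defeqAttrib.useBackward true
set_option backward.isDefEq.respectTransparency false
set_option backward.isDefEq.respectTransparency.types false

universe u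

open CategoryTheory CategoryTheory.Limits CategoryTheory.Pretriangulated
open Groth.L02.PC Groth.L10.DR

attribute [local instance] HasDerivedCategory.standard

namespace Groth.L10.DTen.DbAut

variable {A : Type u} [CommRing A]

/-- maps from the cohomology in degree `i` to residue fields are governed by the maps out of `L` -/
theorem hom_H_eq_zero {L : Dual.D A} {b₀ : ℤ} (hb : LEH L b₀) {i : ℤ}
    (hP : ∀ k, i < k → Module.Projective A ((HH k).obj L)) {N : ModuleCat.{u} A} {j : ℤ}
    (hj1 : i - 1 ≤ j) (hj2 : j ≤ i) (hL : ∀ f : L ⟶ single j N, f = 0)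
    (f : single i ((HH i).obj L) ⟶ single j N) : f = 0 := by
  obtain ⟨X, ι, π, -, -, -, -, -, ⟨Z, g, h, hT, hZ, hg⟩, X', φ, δ, hT', hX'⟩ := exists_cut L i
  let sh : ∀ (W : Dual.D A) (a k l : ℤ), a + k = l → ((HH k).obj (W⟦a⟧) ≅ (HH l).obj W) := fun W a k l hkl =>
    ((DerivedCategory.homologyFunctor (ModuleCat.{u} A) 0).shiftIso a k l hkl).app W
  -- every map out of `X` extends to `L`, hence vanishes
  have hX : ∀ u : X ⟶ single j N, u = 0 := fun u => by
    have hiso : ∀ k, i + 2 ≤ k → ((HH k).obj (Z⟦(-1 : ℤ)⟧) ≅ (HH (k - 1)).obj L) := fun k hk =>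
      haveI := hg (k - 1) (by omega)
      sh Z (-1) k (k - 1) (by omega) ≪≫ (asIso ((HH (k - 1)).map g)).symm
    have h0 : (Triangle.mk ι g h).invRotate.mor₁ ≫ u = 0 := by
      refine hom_eq_zero_of_projective_H (Z := Z⟦(-1 : ℤ)⟧) (a := i + 2) (b := max (b₀ + 1) (i + 2))
        (fun k hk => (hZ (k - 1) (by omega)).of_iso (sh Z (-1) k (k - 1) (by omega)))
        (fun k hk => (hb (k - 1) (by omega)).of_iso (hiso k (by omega))) j (by omega) (fun k hk => ?_) N _
      haveI := hP (k - 1) (by omega)
      exact Module.Projective.of_equiv (hiso k hk).symm.toLinearEquiv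
    obtain ⟨v, hv⟩ := Triangle.yoneda_exact₂ _ (inv_rot_of_distTriang _ hT) u h0
    exact hv.trans (by rw [hL v, comp_zero])
  obtain ⟨v, hv⟩ := Triangle.yoneda_exact₃ _ hT' f (hX _)
  refine hv.trans ?_
  rw [hom_eq_zero_of_le_ge (a := i - 2) (b := j) (by omega)
    (fun k hk => (hX' (k + 1) (by omega)).of_iso (sh X' 1 k (k + 1) (by omega))) (below_single j N) v, comp_zero]

variable [IsNoetherianRing A]

/-- vanishing of extensions by residue fields gives projectivity -/
theorem projective_of_hom_eq_zero (i : ℤ) (M : ModuleCat.{u} A) [Module.Finite A M]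
    (h : ∀ (m : Ideal A), m.IsMaximal →
      ∀ f : single i M ⟶ single (i - 1) (ModuleCat.of A (A ⧸ m)), f = 0) : Module.Projective A M := by
  obtain ⟨r, p, hp⟩ := Module.Finite.exists_fin' A M
  refine projective_of_extends p hp fun m hm φ => ?_
  let S : ShortComplex (ModuleCat.{u} A) :=
    ShortComplex.mk (ModuleCat.ofHom (LinearMap.ker p).subtype) (ModuleCat.ofHom p) (by ext x; exact x.2)
  have hS : S.ShortExact :=
    { exact := by
        rw [ShortComplex.moduleCat_exact_iff]
        intro x hx
        exact ⟨⟨x, hx⟩, rfl⟩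
      mono_f := (ModuleCat.mono_iff_injective _).2 (Submodule.injective_subtype _)
      epi_g := (ModuleCat.epi_iff_surjective _).2 hp }
  have hT := rot_of_distTriang _ (rot_of_distTriang _ hS.singleTriangle_distinguished)
  let N : ModuleCat.{u} A := ModuleCat.of A (A ⧸ m)
  let φ' : S.X₁ ⟶ N := ModuleCat.ofHom φ
  let e : (Dual.inD A N)⟦(1 : ℤ)⟧⟦-i⟧ ≅ single (i - 1) N :=
    ((shiftFunctorAdd' (Dual.D A) 1 (-i) (-(i - 1)) (by omega)).app _).symm ≪≫ singleShift (i - 1) N
  have h0 : hS.singleTriangle.rotate.rotate.mor₁ ≫ ((DerivedCategory.singleFunctor _ 0).map φ')⟦(1 : ℤ)⟧' = 0 := by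
    refine (shiftFunctor (Dual.D A) (-i)).map_injective ?_
    rw [Functor.map_zero]
    exact (cancel_mono e.hom).1 ((cancel_epi (singleShift i M).inv).1
      ((h m hm _).trans (by simp)))
  obtain ⟨k, hk⟩ := Triangle.yoneda_exact₂ _ hT _ h0
  obtain ⟨k, rfl⟩ := (shiftFunctor (Dual.D A) (1 : ℤ)).map_surjective k
  obtain ⟨ψ, rfl⟩ := (DerivedCategory.singleFunctor (ModuleCat.{u} A) 0).map_surjective k
  have hφ : φ' = S.f ≫ (-ψ) :=
    (DerivedCategory.singleFunctor (ModuleCat.{u} A) 0).map_injective
      ((shiftFunctor (Dual.D A) (1 : ℤ)).map_injective (by rw [hk]; simp [Triangle.rotate]))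
  exact ⟨(-ψ).hom, (congrArg ModuleCat.Hom.hom hφ).symm⟩

/-- the cohomology modules are projective -/
theorem projective_H (L : Dual.D A) (a₀ b₀ : ℤ) (hbd : ∀ i, (i < a₀ ∨ b₀ < i) → IsZero ((HH i).obj L))
    (hfin : ∀ i, Module.Finite A ((HH i).obj L))
    (htest : ∀ (m : Ideal A), m.IsMaximal → ∃ n : ℤ, ∀ j, j ≠ n →
      ∀ f : L ⟶ single j (ModuleCat.of A (A ⧸ m)), f = 0) (i : ℤ) :
    Module.Projective A ((HH i).obj L) := by
  suffices ∀ (d : ℕ) (i : ℤ), b₀ < i + d → Module.Projective A ((HH i).obj L) from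
    this ((b₀ - i).toNat + 1) i (by omega)
  intro d
  induction d with
  | zero =>
    intro i hi
    haveI := ModuleCat.subsingleton_of_isZero (hbd i (Or.inr (by omega)))
    infer_instance
  | succ d ih =>
    intro i hi
    haveI := hfin i
    have hP : ∀ k, i < k → Module.Projective A ((HH k).obj L) := fun k hk => ih k (by omega)
    have hb : LEH L b₀ := fun k hk => hbd k (Or.inr hk)
    refine projective_of_hom_eq_zero i _ fun m hm f => ?_
    obtain ⟨n, hn⟩ := htest m hm
    by_cases hni : n = i - 1
    · -- then `H^i L` is killed by an element outside `m`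
      obtain ⟨c, hc, hcH⟩ := exists_notMem_smul_eq_zero m (M := (HH i).obj L) fun φ => by
        have h1 := hom_H_eq_zero hb hP (j := i) (by omega) le_rfl (hn i (by omega))
          ((DerivedCategory.singleFunctor _ i).map (ModuleCat.ofHom φ))
        exact congrArg ModuleCat.Hom.hom
          ((DerivedCategory.singleFunctor (ModuleCat.{u} A) i).map_injective (h1.trans (Functor.map_zero _ _ _).symm))
      obtain ⟨t, μ, hμ, ht⟩ := Ideal.IsMaximal.exists_inv (I := m) hm hc
      have h1 : c • 𝟙 ((HH i).obj L) = 0 := by ext x; exact hcH x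
      have h2 : μ • 𝟙 (ModuleCat.of A (A ⧸ m)) = 0 := by
        refine ModuleCat.hom_ext (LinearMap.ext fun x => ?_)
        obtain ⟨x, rfl⟩ := Ideal.Quotient.mk_surjective x
        exact Ideal.Quotient.eq_zero_iff_mem.2 (m.mul_mem_right x hμ)
      have h3 : c • f = 0 := by
        have := congrArg (fun g => (DerivedCategory.singleFunctor (ModuleCat.{u} A) i).map g ≫ f) h1
        simpa [Functor.map_smul] using this
      have h4 : μ • f = 0 := by
        have := congrArg (fun g => f ≫ (DerivedCategory.singleFunctor (ModuleCat.{u} A) (i - 1)).map g) h2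
        simpa [Functor.map_smul] using this
      calc f = (t * c + μ) • f := by rw [ht, one_smul]
        _ = 0 := by rw [add_smul, mul_smul, h3, smul_zero, h4, add_zero]
    · exact hom_H_eq_zero hb hP le_rfl (by omega) (hn (i - 1) (by omega)) f

end Groth.L10.DTen.DbAut
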