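/-
A linear triangulated autoequivalence of the bounded coherent derived category sends the unit to an invertible object.
-/
import Groth.Agent.L10.DTen.DbAut.Point
import Groth.Agent.L10.DTen.DbAut.ProjH
import Groth.Agent.L10.DTen.DbAut.Invert
import Mathlib.CategoryTheory.Triangulated.Subcategory
import Mathlib.CategoryTheory.Linear.LinearFunctor

set_option autoImplicit false
set_option linter.style.haveILetI false
set_option backward.defeqAttrib.useBackward true
set_option backward.isDefEq.respectTransparency false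
set_option backward.isDefEq.respectTransparency.types false

universe u

open CategoryTheory CategoryTheory.Limits CategoryTheory.Pretriangulated MonoidalCategory
open Groth.L02.PC Groth.L10.DR

attribute [local instance] HasDerivedCategory.standard

namespace Groth.L10.DTen.DbAut

variable {A : Type u} [CommRing A] (P : ObjectProperty (Dual.D A)) [P.IsTriangulated]
  (F : P.FullSubcategory ⥤ P.FullSubcategory) [F.CommShift ℤ]

/-- a shifted full subcategory object, in `D(A)` -/
noncomputable abbrev objShift (X : P.FullSubcategory) (k : ℤ) : (X⟦k⟧).obj ≅ X.obj⟦k⟧ :=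
  (P.ι.commShiftIso k).app X

/-- morphisms to shifts are in the image of `F` -/
theorem exists_preimage [F.Full] {X X' : P.FullSubcategory} {k : ℤ}
    (f : (F.obj X).obj ⟶ (F.obj X').obj⟦k⟧) :
    ∃ g : X ⟶ X'⟦k⟧, f = P.ι.map (F.map g ≫ (F.commShiftIso k).hom.app X') ≫ (objShift P (F.obj X') k).hom := by
  obtain ⟨f', hf'⟩ := P.ι.map_surjective (X := F.obj X) (Y := (F.obj X')⟦k⟧) (f ≫ (objShift P (F.obj X') k).inv)
  obtain ⟨g, hg⟩ := F.map_surjective (f' ≫ (F.commShiftIso k).inv.app X')
  refine ⟨g, ?_⟩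
  rw [hg, Category.assoc, Iso.inv_hom_id_app]
  simp only [Category.comp_id, Functor.comp_obj]
  exact (Iso.eq_comp_inv _).1 hf' |>.symm

variable [F.Additive]

theorem eq_zero_of_preimage [F.Full] {X X' : P.FullSubcategory} {k : ℤ}
    (h : ∀ g : X.obj ⟶ X'.obj⟦k⟧, g = 0) (f : (F.obj X).obj ⟶ (F.obj X').obj⟦k⟧) : f = 0 := by
  obtain ⟨g, rfl⟩ := exists_preimage P F f
  have hg : g = 0 := P.ι.map_injective <| by
    rw [Functor.map_zero]
    exact (cancel_mono (objShift P X' k).hom).1 ((h _).trans zero_comp.symm)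
  rw [hg, Functor.map_zero, zero_comp, Functor.map_zero, zero_comp]

variable [F.Linear A]

omit [F.CommShift ℤ] [P.IsTriangulated] [F.Additive] in
theorem exists_smul_image [F.Full] {X : P.FullSubcategory} (h : ∀ g : X.obj ⟶ X.obj, ∃ a : A, g = a • 𝟙 X.obj)
    (f : (F.obj X).obj ⟶ (F.obj X).obj) : ∃ a : A, f = a • 𝟙 (F.obj X).obj := by
  obtain ⟨f', rfl⟩ := P.ι.map_surjective (X := F.obj X) (Y := F.obj X) f
  obtain ⟨g, rfl⟩ := F.map_surjective f'
  obtain ⟨a, ha⟩ := h g.hom
  refine ⟨a, ?_⟩
  have hg : g = a • 𝟙 X := InducedCategory.hom_ext ha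
  rw [hg, Functor.map_smul, CategoryTheory.Functor.map_id]
  rfl

omit [F.CommShift ℤ] [P.IsTriangulated] in
theorem smul_image_eq_zero_iff [F.Faithful] {X : P.FullSubcategory} (a : A) :
    a • 𝟙 (F.obj X).obj = 0 ↔ a • 𝟙 X.obj = 0 := by
  constructor
  · intro h
    have h1 : a • 𝟙 (F.obj X) = 0 := InducedCategory.hom_ext h
    rw [← CategoryTheory.Functor.map_id, ← Functor.map_smul, ← F.map_zero] at h1
    exact congrArg InducedCategory.Hom.hom (F.map_injective h1)
  · intro h
    have h1 : a • 𝟙 X = 0 := InducedCategory.hom_ext h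
    have h2 := congrArg F.map h1
    rw [Functor.map_smul, CategoryTheory.Functor.map_id, Functor.map_zero] at h2
    exact congrArg InducedCategory.Hom.hom h2

variable [IsNoetherianRing A] [_root_.DTen.HasLTen A]

theorem isInvertible_map_unit
    (hP : ∀ K : Dual.D A, P K ↔
      ((∀ i : ℤ, Module.Finite A (Dual.HD A K i)) ∧
        ∃ a b : ℤ, ∀ i : ℤ, (i < a ∨ b < i) → Subsingleton (Dual.HD A K i)))
    [F.IsEquivalence] (hA : P (_root_.DTen.unit A)) :
    _root_.DTen.IsInvertible A (F.obj ⟨_root_.DTen.unit A, hA⟩).obj := by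
  classical
  let U : P.FullSubcategory := ⟨_root_.DTen.unit A, hA⟩
  let L := (F.obj U).obj
  obtain ⟨hfin, a₀, b₀, hbd⟩ := (hP L).1 (F.obj U).property
  have hbd' : ∀ i, (i < a₀ ∨ b₀ < i) → IsZero ((HH i).obj L) := fun i hi =>
    @ModuleCat.isZero_of_subsingleton _ _ _ (hbd i hi)
  -- residue fields go to shifts of residue fields
  have hpoint : ∀ (m : Ideal A), m.IsMaximal → ∃ n : ℤ, ∀ j, j ≠ n →
      ∀ f : L ⟶ single j (ModuleCat.of A (A ⧸ m)), f = 0 := fun m hm => by
    let κ : ModuleCat.{u} A := ModuleCat.of A (A ⧸ m)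
    have hκ : P (single 0 κ) := (hP _).2 ⟨fun i => by
      by_cases hi : i = 0
      · subst hi
        exact Module.Finite.equiv (HS 0 κ).toLinearEquiv.symm
      · haveI : Subsingleton (Dual.HD A (single 0 κ) i) :=
          ModuleCat.subsingleton_of_isZero (isZero_H_single 0 i hi κ)
        infer_instance, 0, 0, fun i hi =>
          ModuleCat.subsingleton_of_isZero (isZero_H_single 0 i (by omega) κ)⟩
    let X₀ : P.FullSubcategory := ⟨single 0 κ, hκ⟩
    let Y := (F.obj X₀).obj
    obtain ⟨-, a₁, b₁, hY⟩ := (hP Y).1 (F.obj X₀).property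
    have hkill : ∀ c ∈ m, c • 𝟙 κ = 0 := fun c hc => by
      refine ModuleCat.hom_ext (LinearMap.ext fun x => ?_)
      obtain ⟨x, rfl⟩ := Ideal.Quotient.mk_surjective x
      exact Ideal.Quotient.eq_zero_iff_mem.2 (m.mul_mem_right x hc)
    obtain ⟨n, ⟨e⟩⟩ := exists_iso_of_point m Y a₁ b₁
      (fun i hi => @ModuleCat.isZero_of_subsingleton _ _ _ (hY i hi))
      (fun k hk f => eq_zero_of_preimage P F (fun g => hom_eq_zero_of_le_ge (a := 0) (b := -k) (by omega)
        (leh_single 0 κ) (fun i hi => (isZero_H_single 0 (k + i) (by omega) κ).of_iso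
          (((DerivedCategory.homologyFunctor (ModuleCat.{u} A) 0).shiftIso k i (k + i) rfl).app _)) g) f)
      (fun c hc => (smul_image_eq_zero_iff P F (X := X₀) c).2 (by
        rw [← CategoryTheory.Functor.map_id, ← Functor.map_smul, hkill c hc, Functor.map_zero]))
      (fun f => exists_smul_image P F (X := X₀) (fun g => by
        obtain ⟨g, rfl⟩ := (DerivedCategory.singleFunctor (ModuleCat.{u} A) 0).map_surjective g
        obtain ⟨c, hc⟩ := Ideal.Quotient.mk_surjective (g.hom (1 : A ⧸ m))
        have hg : g = c • 𝟙 κ := by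
          refine ModuleCat.hom_ext (LinearMap.ext fun x => ?_)
          obtain ⟨x, rfl⟩ := Ideal.Quotient.mk_surjective x
          have hx : (Ideal.Quotient.mk m x : A ⧸ m) = x • (1 : A ⧸ m) := by
            simp [Algebra.smul_def]
          change g.hom (Ideal.Quotient.mk m x) = c • (Ideal.Quotient.mk m x : A ⧸ m)
          rw [hx, map_smul, ← hc, smul_comm]
          congr 1
          simp [Algebra.smul_def]
        exact ⟨c, by rw [hg, Functor.map_smul, CategoryTheory.Functor.map_id]⟩) f)
      (fun h => by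
        have h1 := (smul_image_eq_zero_iff P F (X := X₀) (1 : A)).1 (by rw [one_smul]; exact h)
        rw [one_smul] at h1
        have h1' : (DerivedCategory.singleFunctor (ModuleCat.{u} A) 0).map (𝟙 κ) =
            (DerivedCategory.singleFunctor (ModuleCat.{u} A) 0).map 0 := by
          rw [Functor.map_zero, CategoryTheory.Functor.map_id]; exact h1
        have h2 := congrArg (fun f : κ ⟶ κ => f (1 : A ⧸ m))
          ((DerivedCategory.singleFunctor (ModuleCat.{u} A) 0).map_injective h1')
        exact hm.ne_top ((Ideal.eq_top_iff_one m).2 (Ideal.Quotient.eq_zero_iff_mem.1 h2)))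
    refine ⟨n, fun j hj f => ?_⟩
    let e' : single j κ ≅ Y⟦n - j⟧ :=
      (((DerivedCategory.singleFunctors (ModuleCat.{u} A)).shiftIso (n - j) j n (by omega)).app κ).symm ≪≫
        (shiftFunctor (Dual.D A) (n - j)).mapIso e.symm
    refine (cancel_mono e'.hom).1 ((eq_zero_of_preimage P F (X := U) (X' := X₀) (k := n - j) (fun g => ?_) _).trans
      zero_comp.symm)
    let e₁ : _root_.DTen.unit A ≅ single 0 (ModuleCat.of A A) :=
      ((DerivedCategory.singleFunctorIsoCompQ (ModuleCat.{u} A) 0).app (ModuleCat.of A A)).symm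
    let e₂ : X₀.obj⟦n - j⟧ ≅ single (j - n) κ :=
      ((DerivedCategory.singleFunctors (ModuleCat.{u} A)).shiftIso (n - j) (j - n) 0 (by omega)).app κ
    exact (cancel_epi e₁.inv).1 ((cancel_mono e₂.hom).1
      ((hom_projective_single_eq_zero (by omega) _ κ _).trans (by simp)))
  have hproj : ∀ i, Module.Projective A ((HH i).obj L) := projective_H L a₀ b₀ hbd' hfin hpoint
  let s := Finset.Icc a₀ b₀
  obtain ⟨e⟩ := exists_split_iso L s (fun i hi => hbd' i (by
    rw [Finset.mem_Icc] at hi; omega)) hproj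
  refine isInvertible_of_iso e ?_
  haveI : ∀ i : s, Module.Finite A ((HH (i : ℤ)).obj L) := fun i => hfin i
  haveI : ∀ i : s, Module.Projective A ((HH (i : ℤ)).obj L) := fun i => hproj i
  refine exists_inverse (bijective_scalars (fun i : s => (i : ℤ)) (fun i : s => (HH (i : ℤ)).obj L) (fun f => ?_) (fun a ha => ?_))
  · obtain ⟨a, ha⟩ := exists_smul_image P F (X := U) exists_smul_of_end_unit (e.inv ≫ f ≫ e.hom)
    refine ⟨a, (cancel_epi e.inv).1 ((cancel_mono e.hom).1 ?_)⟩
    rw [Category.assoc, ha]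
    simp [L]
  · refine eq_zero_of_smul_unit ((smul_image_eq_zero_iff P F (X := U) a).1 ?_)
    have := congrArg (fun f => e.inv ≫ f ≫ e.hom) ha
    simpa [L] using this

end Groth.L10.DTen.DbAut
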